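import Groth.Agent.FlatLocus.Basic
import Groth.Agent.GrpSchLib.MonoSubgroup
import Groth.Prelude.Def_Red
import Mathlib

/-!
# Schematic closures of the generic fibre
-/

set_option autoImplicit false
set_option backward.isDefEq.respectTransparency.types false

universe u

open AlgebraicGeometry CategoryTheory Limits TensorProduct

namespace Groth.Agent.SchClosure

/-- The scheme-theoretic closure of a flat scheme over a Dedekind domain is flat. -/
theorem flat_of_ker_eq_bot {X Y : Scheme.{u}} {P : Type u} [CommRing P] [IsDedekindDomain P]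
    (f : X ⟶ Y) (g : Y ⟶ Spec (CommRingCat.of P)) [QuasiCompact f] (hker : f.ker = ⊥)
    [Flat (f ≫ g)] : Flat g := by
  rw [IsZariskiLocalAtSource.iff_of_iSup_eq_top (P := @Flat) (fun W : Y.affineOpens => W.1)
    (iSup_affineOpens_eq_top Y)]
  rintro ⟨W, hW⟩
  have : IsAffine W.toScheme := hW
  rw [HasRingHomProperty.iff_of_isAffine (P := @Flat)]
  let ρ := (Scheme.ΓSpecIso (CommRingCat.of P)).inv ≫ g.appLE ⊤ W le_top
  suffices hρ : ρ.hom.Flat by
    have he : (W.ι ≫ g).appTop = g.appLE ⊤ W le_top ≫ W.topIso.inv := by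
      rw [Scheme.Hom.comp_appTop, Scheme.Opens.topIso, Functor.mapIso_inv]
      refine Eq.trans ?_ (Scheme.Hom.appLE_map g (le_top : W ≤ g ⁻¹ᵁ ⊤) _).symm
      rfl
    rw [he, FlatLocus.flat_comp_isIso]
    exact (FlatLocus.flat_isIso_comp _ _).1 hρ
  let _ : Algebra P Γ(Y, W) := ρ.hom.toAlgebra
  change Module.Flat P Γ(Y, W)
  rw [IsDedekindDomain.flat_iff_torsion_eq_bot, eq_bot_iff]
  rintro m ⟨⟨a, ha⟩, ham⟩
  rw [Submodule.mem_bot]
  have ham' : ρ.hom a * m = 0 := ham
  suffices h : f.app W m = 0 by
    have h1 : m ∈ f.ker.ideal ⟨W, hW⟩ := by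
      rw [Scheme.Hom.ker_apply]
      exact h
    rw [hker] at h1
    simpa using h1
  refine X.sheaf.eq_of_locally_eq' (fun V : {V : X.affineOpens // V.1 ≤ f ⁻¹ᵁ W} => V.1.1) (f ⁻¹ᵁ W)
    (fun V => homOfLE V.2) ?_ _ _ ?_
  · intro x hx
    obtain ⟨V, hV, hxV, hVW⟩ := exists_isAffineOpen_mem_and_subset hx
    exact TopologicalSpace.Opens.mem_iSup.2 ⟨⟨⟨V, hV⟩, hVW⟩, hxV⟩
  · rintro ⟨⟨V, hV⟩, hVW⟩
    let r := f.appLE W V hVW
    have hfl : ((f ≫ g).appLE ⊤ V le_top).hom.Flat :=
      HasRingHomProperty.appLE @Flat (f ≫ g) inferInstance ⟨⊤, isAffineOpen_top _⟩ ⟨V, hV⟩ le_top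
    have hfl2 : (ρ ≫ r).hom.Flat := by
      have : g.appLE ⊤ W le_top ≫ r = (f ≫ g).appLE ⊤ V le_top := Scheme.Hom.appLE_comp_appLE _ _ _ _ _ _ _
      simp only [ρ, Category.assoc, this]
      exact (FlatLocus.flat_isIso_comp _ _).2 hfl
    let _ : Algebra P Γ(X, V) := (ρ ≫ r).hom.toAlgebra
    have : Module.Flat P Γ(X, V) := hfl2
    have h2 : a • r.hom m = 0 := by
      show (ρ ≫ r).hom a * r.hom m = 0
      rw [CommRingCat.hom_comp, RingHom.comp_apply, ← map_mul, ham', map_zero]
    have h3 : r.hom m ∈ Submodule.torsion P Γ(X, V) := ⟨⟨a, ha⟩, h2⟩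
    rw [Module.Flat.torsion_eq_bot, Submodule.mem_bot] at h3
    refine Eq.trans ?_ (map_zero _).symm
    exact h3

theorem isIso_of_generic_affine {A : Type u} [CommRing A] {K : Type u} [CommRing K] [Algebra A K]
    (hinj : Function.Injective (algebraMap A K)) {Y Z : Scheme.{u}} (g : Y ⟶ Spec (CommRingCat.of A))
    [Flat g] (i : Z ⟶ Y) [IsClosedImmersion i]
    (l : pullback g (Spec.map (CommRingCat.ofHom (algebraMap A K))) ⟶ Z)
    (hl : l ≫ i = pullback.fst _ _) (B : CommRingCat.{u}) (q : Spec B ⟶ Y) [IsOpenImmersion q] :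
    IsIso (pullback.snd i q) := by
  let e : Spec B ≅ Spec B := Iso.refl _
  obtain ⟨φ, hφ⟩ : ∃ φ : CommRingCat.of A ⟶ B, (e.hom ≫ q) ≫ g = Spec.map φ := ⟨_, (Spec.map_preimage _).symm⟩
  have hfl : Flat (Spec.map φ) := by rw [← hφ]; infer_instance
  rw [HasRingHomProperty.Spec_iff (P := @Flat)] at hfl
  letI : Algebra A B := φ.hom.toAlgebra
  haveI : Module.Flat A B := hfl
  have hinc : Function.Injective (Algebra.TensorProduct.includeLeftRingHom : B →+* B ⊗[A] K) := by
    have h1 := Module.Flat.lTensor_preserves_injective_linearMap (M := B) (Algebra.linearMap A K) hinj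
    intro x y hxy
    have : (Algebra.linearMap A K).lTensor B ((TensorProduct.rid A B).symm x) =
        (Algebra.linearMap A K).lTensor B ((TensorProduct.rid A B).symm y) := by
      simpa using hxy
    exact (TensorProduct.rid A B).symm.injective (h1 this)
  let r : Spec (CommRingCat.of (B ⊗[A] K)) ⟶ Spec B :=
    Spec.map (CommRingCat.ofHom Algebra.TensorProduct.includeLeftRingHom)
  let m : Spec (CommRingCat.of (B ⊗[A] K)) ⟶ pullback g (Spec.map (CommRingCat.ofHom (algebraMap A K))) :=
    pullback.lift (r ≫ e.hom ≫ q)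
      (Spec.map (CommRingCat.ofHom (Algebra.TensorProduct.includeRight : K →ₐ[A] B ⊗[A] K).toRingHom)) (by
        simp only [r, Category.assoc]
        rw [← Category.assoc e.hom, hφ, ← Spec.map_comp, ← Spec.map_comp]
        congr 1
        ext x
        exact ((Algebra.TensorProduct.includeRight : K →ₐ[A] B ⊗[A] K).commutes x).symm)
  let w : Spec (CommRingCat.of (B ⊗[A] K)) ⟶ pullback i q :=
    pullback.lift (m ≫ l) (r ≫ e.hom) (by rw [Category.assoc, hl, pullback.lift_fst, Category.assoc])
  have hw : (w ≫ (pullback.snd i q ≫ e.inv)) = r := by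
    rw [← Category.assoc, pullback.lift_snd, Category.assoc, e.hom_inv_id, Category.comp_id]
  obtain ⟨I, u, hu⟩ := IsClosedImmersion.Spec_iff.mp
    (inferInstance : IsClosedImmersion (pullback.snd i q ≫ e.inv))
  rw [hu, ← Category.assoc] at hw
  obtain ⟨ψ, hψ⟩ : ∃ ψ, w ≫ u.hom = Spec.map ψ := ⟨_, (Spec.map_preimage _).symm⟩
  rw [hψ, ← Spec.map_comp] at hw
  have hw' := congrArg CommRingCat.Hom.hom (Spec.map_injective hw)
  have hI : I = ⊥ := by
    rw [eq_bot_iff]
    intro x hx
    apply hinc
    have := RingHom.congr_fun hw' x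
    simp only [CommRingCat.hom_comp, RingHom.comp_apply, CommRingCat.hom_ofHom,
      Ideal.Quotient.eq_zero_iff_mem.mpr hx, map_zero] at this
    rw [map_zero]
    exact this.symm
  haveI : IsIso (Spec.map (CommRingCat.ofHom (Ideal.Quotient.mk I))) := by
    subst hI
    have : IsIso (CommRingCat.ofHom (Ideal.Quotient.mk (⊥ : Ideal B))) :=
      (ConcreteCategory.isIso_iff_bijective _).mpr ⟨(RingEquiv.quotientBot _).symm.injective, Ideal.Quotient.mk_surjective⟩
    infer_instance
  haveI : IsIso (pullback.snd i q ≫ e.inv) := by rw [hu]; infer_instance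
  exact IsIso.of_isIso_comp_right (pullback.snd i q) e.inv

/-- A closed subscheme of a flat scheme over a domain containing the generic fibre is everything. -/
theorem isIso_of_generic {A : Type u} [CommRing A] {K : Type u} [CommRing K] [Algebra A K]
    (hinj : Function.Injective (algebraMap A K)) {Y Z : Scheme.{u}} (g : Y ⟶ Spec (CommRingCat.of A))
    [Flat g] (i : Z ⟶ Y) [IsClosedImmersion i]
    (l : pullback g (Spec.map (CommRingCat.ofHom (algebraMap A K))) ⟶ Z)
    (hl : l ≫ i = pullback.fst _ _) : IsIso i := by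
  show MorphismProperty.isomorphisms Scheme.{u} i
  rw [IsZariskiLocalAtTarget.iff_of_openCover (P := MorphismProperty.isomorphisms Scheme.{u})
    Y.affineOpenCover.openCover]
  intro k
  exact isIso_of_generic_affine hinj g i l hl _ (Y.affineOpenCover.f k)

/-- Maps from a flat scheme factor through a closed subscheme as soon as their generic fibres do. -/
theorem exists_factor {A : Type u} [CommRing A] {K : Type u} [CommRing K] [Algebra A K]
    (hinj : Function.Injective (algebraMap A K))
    {W H G : Over (Spec (CommRingCat.of A))} [Flat W.hom] (j : H ⟶ G) [IsClosedImmersion j.left] (m : W ⟶ G)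
    (k : (Over.pullback (Spec.map (CommRingCat.ofHom (algebraMap A K)))).obj W ⟶
      (Over.pullback (Spec.map (CommRingCat.ofHom (algebraMap A K)))).obj H)
    (hk : k ≫ (Over.pullback (Spec.map (CommRingCat.ofHom (algebraMap A K)))).map j =
      (Over.pullback (Spec.map (CommRingCat.ofHom (algebraMap A K)))).map m) :
    ∃ m' : W ⟶ H, m' ≫ j = m := by
  let ι₀ := Spec.map (CommRingCat.ofHom (algebraMap A K))
  have h1 : pullback.fst W.hom ι₀ ≫ m.left = (k.left ≫ pullback.fst H.hom ι₀) ≫ j.left := by
    have := congrArg (fun t => Over.Hom.left t ≫ pullback.fst G.hom ι₀) hk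
    refine Eq.trans ?_ (Eq.trans this.symm ?_)
    · exact (pullback.lift_fst _ _ _).symm
    · show (k.left ≫ pullback.lift (pullback.fst H.hom ι₀ ≫ j.left) (pullback.snd H.hom ι₀) _) ≫ _ = _
      rw [Category.assoc, pullback.lift_fst, Category.assoc]
  haveI := isIso_of_generic hinj W.hom (pullback.fst m.left j.left)
    (pullback.lift (pullback.fst W.hom ι₀) (k.left ≫ pullback.fst H.hom ι₀) h1) (pullback.lift_fst _ _ _)
  have h2 : (inv (pullback.fst m.left j.left) ≫ pullback.snd m.left j.left) ≫ j.left = m.left := by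
    rw [Category.assoc, ← pullback.condition, IsIso.inv_hom_id_assoc]
  refine ⟨Over.homMk (inv (pullback.fst m.left j.left) ≫ pullback.snd m.left j.left) ?_,
    Over.OverMorphism.ext h2⟩
  show (inv (pullback.fst m.left j.left) ≫ pullback.snd m.left j.left) ≫ H.hom = W.hom
  rw [← Over.w j, ← Category.assoc, h2, Over.w]

open MonoidalCategory CartesianMonoidalCategory MonObj in
/-- the schematic closure of a closed subgroup of the generic fibre -/
theorem exists_closedSubgroup {A : Type u} [CommRing A] [IsDedekindDomain A] {K : Type u} [Field K]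
    [Algebra A K] [IsFractionRing A K]
    {G : Over (Spec (CommRingCat.of A))} [GrpObj G] {HK : Over (Spec (CommRingCat.of K))} [GrpObj HK]
    (i : HK ⟶ Red.bc (Spec.map (CommRingCat.ofHom (algebraMap A K))) G) [IsMonHom i]
    [IsClosedImmersion i.left] :
    ∃ (H : Over (Spec (CommRingCat.of A))) (_ : GrpObj H) (j : H ⟶ G) (φ : HK.left ⟶ H.left),
      IsMonHom j ∧ IsClosedImmersion j.left ∧ Flat H.hom ∧
      IsPullback φ HK.hom H.hom (Spec.map (CommRingCat.ofHom (algebraMap A K))) ∧
      φ ≫ j.left = i.left ≫ pullback.fst G.hom (Spec.map (CommRingCat.ofHom (algebraMap A K))) ∧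
      φ.ker = ⊥ := by
  let ι₀ := Spec.map (CommRingCat.ofHom (algebraMap A K))
  have hinj : Function.Injective (algebraMap A K) := IsFractionRing.injective A K
  haveI : Flat ι₀ := by
    rw [HasRingHomProperty.Spec_iff (P := @Flat), CommRingCat.hom_ofHom, RingHom.flat_algebraMap_iff]
    exact IsLocalization.flat K (nonZeroDivisors A)
  haveI : IsPreimmersion ι₀ := IsPreimmersion.of_isLocalization (nonZeroDivisors A)
  haveI : Mono ι₀ := inferInstance
  let f : HK.left ⟶ G.left := i.left ≫ pullback.fst G.hom ι₀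
  haveI : IsClosedImmersion i.left := ‹IsClosedImmersion i.left›
  haveI : IsAffineHom ι₀ := inferInstanceAs (IsAffineHom (Spec.map (CommRingCat.ofHom (algebraMap A K))))
  haveI : QuasiCompact (pullback.fst G.hom ι₀) := inferInstance
  haveI : QuasiCompact i.left := inferInstance
  haveI : QuasiCompact f := quasiCompact_comp _ _
  let H : Over (Spec (CommRingCat.of A)) := Over.mk (f.imageι ≫ G.hom)
  let j : H ⟶ G := Over.homMk f.imageι rfl
  haveI : IsClosedImmersion j.left := inferInstanceAs (IsClosedImmersion f.imageι)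
  let φ : HK.left ⟶ H.left := f.toImage
  have hφ : φ ≫ j.left = f := f.toImage_imageι
  haveI : QuasiCompact φ := by
    have : QuasiCompact (φ ≫ j.left) := by rw [hφ]; infer_instance
    exact QuasiCompact.of_comp φ j.left
  haveI hsd : IsSchemeTheoreticallyDominant φ := by
    refine ⟨Scheme.IdealSheafData.ext (funext fun U => ?_)⟩
    rw [Scheme.IdealSheafData.ideal_bot, Pi.bot_apply, eq_bot_iff]
    refine (f.toImage.ideal_ker_le U).trans fun s hs => ?_
    rw [Ideal.mem_bot]
    refine TopCat.Presheaf.section_ext f.image.sheaf _ _ _ fun w hw => ?_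
    refine Scheme.Hom.stalkFunctor_toImage_injective f w ?_
    erw [TopCat.Presheaf.stalkFunctor_map_germ_apply, TopCat.Presheaf.stalkFunctor_map_germ_apply]
    exact congrArg _ ((RingHom.mem_ker.mp hs).trans (map_zero _).symm)
  have hker : φ.ker = ⊥ := φ.ker_eq_bot
  have hw : φ ≫ H.hom = HK.hom ≫ ι₀ := by
    show f.toImage ≫ f.imageι ≫ G.hom = _
    rw [← Category.assoc, f.toImage_imageι]
    show (i.left ≫ pullback.fst G.hom ι₀) ≫ G.hom = _
    rw [Category.assoc, pullback.condition, ← Category.assoc]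
    exact congrArg (· ≫ ι₀) (Over.w i)
  haveI : Flat (Over.mk (𝟙 (Spec (CommRingCat.of K)))).hom := inferInstanceAs (Flat (𝟙 _))
  haveI : Flat H.hom := by
    haveI : Flat HK.hom := by
      exact inferInstance
    haveI : Flat (φ ≫ H.hom) := by rw [hw]; infer_instance
    exact flat_of_ker_eq_bot φ H.hom hker
  -- the generic fibre
  let e : HK ⟶ (Over.pullback ι₀).obj H := Over.homMk (pullback.lift φ HK.hom hw) (pullback.lift_snd _ _ _)
  have he : e ≫ (Over.pullback ι₀).map j = i := by
    apply Over.OverMorphism.ext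
    apply pullback.hom_ext
    · show (pullback.lift φ HK.hom hw ≫ pullback.lift _ _ _) ≫ pullback.fst _ _ = _
      rw [Category.assoc, pullback.lift_fst, pullback.lift_fst_assoc, hφ]
    · show (pullback.lift φ HK.hom hw ≫ pullback.lift _ _ _) ≫ pullback.snd _ _ = _
      rw [Category.assoc, pullback.lift_snd, pullback.lift_snd]
      exact (Over.w i).symm
  haveI : Mono ((Over.pullback ι₀).map j).left := by
    have : IsClosedImmersion ((Over.pullback ι₀).map j).left := by
      refine MorphismProperty.of_isPullback (P := @IsClosedImmersion)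
        (f' := pullback.fst H.hom ι₀) (g := j.left) (f := pullback.fst G.hom ι₀) ?_ inferInstance
      refine IsPullback.of_bot ?_ (pullback.lift_fst _ _ _).symm
        (IsPullback.of_hasPullback G.hom ι₀)
      convert IsPullback.of_hasPullback H.hom ι₀ using 1
      · exact pullback.lift_snd _ _ _
      · exact Over.w j
    infer_instance
  haveI : Mono ((Over.pullback ι₀).map j) := (Over.forget _).mono_of_mono_map ‹_›
  haveI : IsIso e.left := by
    haveI : IsClosedImmersion e.left := by
      haveI : IsClosedImmersion (e.left ≫ ((Over.pullback ι₀).map j).left) := by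
        have := congrArg Over.Hom.left he
        rw [Over.comp_left] at this
        rw [this]; infer_instance
      haveI : IsSeparated ((Over.pullback ι₀).map j).left := inferInstance
      exact IsClosedImmersion.of_comp e.left ((Over.pullback ι₀).map j).left
    have hef : e.left ≫ pullback.fst H.hom ι₀ = φ := pullback.lift_fst _ _ _
    have hsq : IsPullback (𝟙 HK.left) e.left φ (pullback.fst H.hom ι₀) := by
      refine ⟨⟨by rw [Category.id_comp, hef]⟩, ⟨PullbackCone.IsLimit.mk _ (fun s => s.fst)
        (fun s => Category.comp_id _) (fun s => ?_) (fun s m h1 _ => (Category.comp_id m).symm.trans h1)⟩⟩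
      rw [← cancel_mono (pullback.fst H.hom ι₀), Category.assoc, hef]
      exact s.condition
    haveI : Flat (pullback.fst H.hom ι₀) := inferInstance
    haveI : IsSchemeTheoreticallyDominant e.left := IsSchemeTheoreticallyDominant.of_isPullback hsq
    have : IsIso e.left.imageι := (Scheme.isIso_subschemeι_iff_eq_bot _).2 e.left.ker_eq_bot
    rw [← e.left.toImage_imageι]
    infer_instance
  haveI : IsIso e := by
    haveI : IsIso ((Over.forget _).map e) := ‹IsIso e.left›
    exact isIso_of_reflects_iso e (Over.forget _)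
  have hfac : ∀ {W : Over (Spec (CommRingCat.of A))} [Flat W.hom] (m : W ⟶ G)
      (a : (Over.pullback ι₀).obj W ⟶ HK), a ≫ i = (Over.pullback ι₀).map m → ∃ m' : W ⟶ H, m' ≫ j = m := by
    intro W _ m a ha
    exact exists_factor hinj j m (a ≫ e) (by rw [Category.assoc, he, ha])
  haveI : Flat (H ⊗ H).hom := inferInstanceAs (Flat (pullback.fst H.hom H.hom ≫ H.hom))
  haveI : Flat (𝟙_ (Over (Spec (CommRingCat.of A)))).hom := inferInstanceAs (Flat (𝟙 _))
  have hmj : (Over.pullback ι₀).map j = inv e ≫ i := by rw [← he, IsIso.inv_hom_id_assoc]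
  obtain ⟨μ', hμ'⟩ := hfac ((fst H H ≫ j) * (snd H H ≫ j))
    (((Over.pullback ι₀).map (fst H H) ≫ inv e) * ((Over.pullback ι₀).map (snd H H) ≫ inv e)) (by
      rw [MonObj.mul_comp, Functor.map_mul, Functor.map_comp, Functor.map_comp, hmj]
      simp only [Category.assoc])
  obtain ⟨η', hη'⟩ := hfac (η[G]) 1 (by
    rw [MonObj.one_comp]
    have h : (η[G] : 𝟙_ (Over (Spec (CommRingCat.of A))) ⟶ G) = 1 := by
      rw [Hom.one_def, toUnit_unique (toUnit _) (𝟙 _), Category.id_comp]
    rw [h, Functor.map_one])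
  obtain ⟨inv', hinv'⟩ := hfac (j⁻¹) (inv e)⁻¹ (by
    rw [GrpObj.inv_comp, Functor.map_inv', hmj])
  haveI : Mono j := (Over.forget _).mono_of_mono_map (inferInstanceAs (Mono j.left))
  obtain ⟨str, hstr⟩ := GrpSchLib.exists_grpObj_of_mono j η' hη' μ' hμ' inv' hinv'
  refine ⟨H, str, j, φ, hstr, inferInstance, inferInstance, ?_, hφ, hker⟩
  refine IsPullback.of_iso_pullback ⟨hw⟩ (asIso e.left) ?_ ?_
  · exact pullback.lift_fst _ _ _
  · exact pullback.lift_snd _ _ _

end Groth.Agent.SchClosure
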